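import Mathlib
import Cfsg.Agent.Inv.ZStar
import Cfsg.Agent.Transfer.Abelian

/-!
Automorphisms of 2-power order centralizing an abelian Sylow 2-subgroup are inner modulo the core.
-/

set_option autoImplicit false

namespace Cfsg.Agent.Hv

open Subgroup

/-- Ambient form: `N` normal in `X`, `T` an abelian Sylow 2-subgroup of `X`, `X' ≤ N`. -/
theorem exists_mul_central_of_abelian {X : Type*} [Group X] [Finite X] (T : Sylow 2 X)
    [hT : IsMulCommutative (T : Subgroup X)] {a : X} (ha : a ∈ (T : Subgroup X)) :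
    ∃ s ∈ (T : Subgroup X) ⊓ commutator X, ∀ g : X,
      (s⁻¹ * a) * g * (s⁻¹ * a)⁻¹ * g⁻¹ ∈ oddCore X := by
  have : Fact (Nat.Prime 2) := ⟨Nat.prime_two⟩
  have h := (Transfer.fitting_decomposition_sylow T).2
  have hc : ∀ x ∈ (T : Subgroup X), ∀ y ∈ (T : Subgroup X), x * y = y * x := fun x hx y hy =>
    congrArg Subtype.val (hT.is_comm.comm (⟨x, hx⟩ : (T : Subgroup X)) ⟨y, hy⟩)
  rw [← h] at ha
  have hn : (T : Subgroup X) ⊓ centralizer (normalizer ((T : Subgroup X) : Set X) : Set X) ≤
      normalizer (((T : Subgroup X) ⊓ pResidual 2 X : Subgroup X) : Set X) := fun c hcc =>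
    centralizer_le_normalizer _ fun y hy => hc y hy.1 c hcc.1
  rw [Core.mem_sup_of_le_normalizer hn] at ha
  obtain ⟨s, hs, c, hcc, rfl⟩ := ha
  refine ⟨s, ⟨hs.1, Transfer.sylow_inf_pResidual_le_commutator T hs⟩, fun g => ?_⟩
  rw [inv_mul_cancel_left]
  refine Inv.zstar_elem (S := T) ⟨hcc.1, fun k hk => ?_⟩ g
  obtain ⟨v, hv, h1⟩ := Transfer.control_normalizer_of_abelian T hcc.1 hk
  rw [← h1, hcc.2 v hv, mul_inv_cancel_right]

theorem inner_of_fix_abelian_sylow {G : Type*} [Group G] [Finite G] (hcore : pPrimeCore 2 G = ⊥)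
    (P : Sylow 2 G) (hab : IsMulCommutative (P : Subgroup G)) (α : MulAut G) {j : ℕ}
    (h2 : α ^ 2 ^ j = 1) (hfix : ∀ x ∈ (P : Subgroup G), α x = x) :
    ∃ g ∈ (P : Subgroup G), ∀ x : G, α x = g * x * g⁻¹ := by
  have : Fact (Nat.Prime 2) := ⟨Nat.prime_two⟩
  let X := G ⋊[(zpowers α).subtype] (zpowers α)
  have : Finite X := Finite.of_equiv _ SemidirectProduct.equivProd.symm
  let s : zpowers α := ⟨α, mem_zpowers α⟩
  have hA : IsPGroup 2 (zpowers α) := Inv.isPGroup_zpowers_of_pow h2
  have hfix' : ∀ t : zpowers α, ∀ x ∈ (P : Subgroup G), (t : MulAut G) x = x := by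
    rintro ⟨_, k, rfl⟩ x hx
    exact zpow_mem (show α ∈ MulAction.stabilizer (MulAut G) x from hfix x hx) k
  have hcomm : ∀ x ∈ (P : Subgroup G), ∀ t : zpowers α,
      (SemidirectProduct.inl x * SemidirectProduct.inr t : X) =
        SemidirectProduct.inr t * SemidirectProduct.inl x := by
    intro x hx t
    have h := SemidirectProduct.inl_aut (φ := (zpowers α).subtype) t x
    rw [show (zpowers α).subtype t x = x from hfix' t x hx, map_inv] at h
    conv_lhs => rw [h]
    group
  have hQ : IsPGroup 2 ((P : Subgroup G).map (SemidirectProduct.inl : G →* X) ⊔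
      (⊤ : Subgroup (zpowers α)).map (SemidirectProduct.inr : _ →* X) : Subgroup X) := by
    refine Inv.isPGroup_sup_of_commute (P.2.map _) ((hA.to_subgroup ⊤).map _) ?_
    rintro _ ⟨x, hx, rfl⟩ _ ⟨t, -, rfl⟩
    exact hcomm x hx t
  obtain ⟨T, hT⟩ := hQ.exists_le_sylow
  have hTr : ∀ t, (SemidirectProduct.inr t : X) ∈ (T : Subgroup X) := fun t =>
    hT (mem_sup_right ⟨t, trivial, rfl⟩)
  have hTP : (T : Subgroup X).comap (SemidirectProduct.inl : G →* X) = P :=
    P.3 (T.2.comap_of_injective _ SemidirectProduct.inl_injective)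
      (fun x hx => hT (mem_sup_left ⟨x, hx, rfl⟩))
  have hl : ∀ y ∈ (T : Subgroup X), y.left ∈ (P : Subgroup G) := by
    intro y hy
    rw [← hTP, mem_comap]
    have := mul_mem hy (inv_mem (hTr y.right))
    rwa [← mul_inv_eq_iff_eq_mul.2 (SemidirectProduct.inl_left_mul_inr_right y).symm]
  have : IsMulCommutative (T : Subgroup X) := by
    refine ⟨⟨fun y z => Subtype.ext ?_⟩⟩
    have hy := hl y y.2
    have hz := hl z z.2
    have h1 : y.1.left * z.1.left = z.1.left * y.1.left :=
      congrArg Subtype.val (hab.is_comm.comm (⟨_, hy⟩ : (P : Subgroup G)) ⟨_, hz⟩)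
    refine SemidirectProduct.ext ?_ ?_
    · change y.1.left * (y.1.right : MulAut G) z.1.left = z.1.left * (z.1.right : MulAut G) y.1.left
      rw [hfix' _ _ hz, hfix' _ _ hy, h1]
    · exact (inferInstance : IsMulCommutative (zpowers α)).is_comm.comm y.1.right z.1.right
  obtain ⟨c, hc, h⟩ := exists_mul_central_of_abelian T (hTr s)
  have hcr : c.right = 1 := by
    have h5 : (commutator X).map (SemidirectProduct.rightHom : X →* zpowers α) ≤ commutator (zpowers α) := by
      rw [commutator_def, commutator_def, map_commutator]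
      exact commutator_mono le_top le_top
    have h6 : commutator (zpowers α) = ⊥ := by
      rw [commutator_def, commutator_eq_bot_iff_le_centralizer]
      exact fun a _ b _ => (inferInstance : IsMulCommutative (zpowers α)).is_comm.comm b a
    exact mem_bot.1 (h6 ▸ h5 ⟨c, hc.2, rfl⟩)
  have hce : c = SemidirectProduct.inl c.left := by
    rw [← SemidirectProduct.inl_left_mul_inr_right c, hcr]
    simp
  refine ⟨c.left, hl c hc.1, fun x => ?_⟩
  have h1 := h (SemidirectProduct.inl x)
  rw [hce, show (SemidirectProduct.inl c.left : X)⁻¹ * SemidirectProduct.inr s *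
      SemidirectProduct.inl x * ((SemidirectProduct.inl c.left)⁻¹ * SemidirectProduct.inr s)⁻¹ *
      (SemidirectProduct.inl x)⁻¹ = SemidirectProduct.inl (c.left⁻¹ * α x * c.left * x⁻¹) by
    rw [map_mul, map_mul, map_mul, show α x = (zpowers α).subtype s x from rfl,
      SemidirectProduct.inl_aut]
    simp only [map_inv]
    group] at h1
  have h3 : (oddCore X).comap (SemidirectProduct.inl : G →* X) ≤ oddCore G :=
    Inv.le_oddCore inferInstance (Inv.odd_card_oddCore.of_dvd_nat
      (card_comap_dvd_of_injective _ _ SemidirectProduct.inl_injective))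
  have h4 := h3 h1
  rw [oddCore, hcore, mem_bot, mul_inv_eq_one] at h4
  calc α x = c.left * (c.left⁻¹ * α x * c.left) * c.left⁻¹ := by group
    _ = _ := by rw [h4]

end Cfsg.Agent.Hv
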